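import Mathlib
import Cfsg.Prelude.Def_AxialAlgebras

/-!
# Two Majorana axes fixed by each other's involutions
-/

set_option autoImplicit false
set_option linter.unusedSectionVars false

namespace Cfsg.Agent.AxialPair

open Cfsg.Axial

universe u

variable {V : Type u} [AddCommGroup V] [Module ℝ V]
variable {mul : V →ₗ[ℝ] V →ₗ[ℝ] V} {B : LinearMap.BilinForm ℝ V}

theorem mem_eigen {a v : V} {c : ℝ} : v ∈ eigen mul a c ↔ mul a v = c • v := by
  rw [eigen, Module.End.mem_eigenspace_iff]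

theorem eigen_map {σ : V ≃ₗ[ℝ] V} (hσ : ∀ u v, σ (mul u v) = mul (σ u) (σ v)) (a : V) (c : ℝ) :
    eigen mul (σ a) c = (eigen mul a c).map (σ : V →ₗ[ℝ] V) := by
  ext v
  rw [mem_eigen, Submodule.mem_map]
  constructor
  · intro h
    refine ⟨σ.symm v, ?_, by simp⟩
    rw [mem_eigen]
    apply σ.injective
    rw [hσ, LinearEquiv.apply_symm_apply, map_smul, LinearEquiv.apply_symm_apply, h]
  · rintro ⟨w, hw, rfl⟩
    rw [mem_eigen] at hw
    simp only [LinearEquiv.coe_coe]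
    rw [← hσ, hw, map_smul]

theorem eigenSum_map {σ : V ≃ₗ[ℝ] V} (hσ : ∀ u v, σ (mul u v) = mul (σ u) (σ v)) (a : V)
    (S : Set ℝ) : eigenSum mul (σ a) S = (eigenSum mul a S).map (σ : V →ₗ[ℝ] V) := by
  simp only [eigenSum, eigen_map hσ, Submodule.map_iSup]

/-- An automorphism carries a Majorana pair to a Majorana pair. -/
theorem pair_map {σ μ : V ≃ₗ[ℝ] V} {a : V} (hσ : ∀ u v, σ (mul u v) = mul (σ u) (σ v))
    (hσB : ∀ u v, B (σ u) (σ v) = B u v) (h : IsMajoranaPair mul B μ a) :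
    IsMajoranaPair mul B (σ * μ * σ⁻¹) (σ a) := by
  obtain ⟨h1, h2, ⟨⟨ha0, haa, htop, hfus⟩, hprim⟩, hfix, hneg⟩ := h
  have happ : ∀ v, (σ * μ * σ⁻¹) v = σ (μ (σ.symm v)) := fun v => rfl
  have hsymm : ∀ u v, σ.symm (mul u v) = mul (σ.symm u) (σ.symm v) := fun u v => σ.injective (by
    rw [hσ, LinearEquiv.apply_symm_apply, LinearEquiv.apply_symm_apply,
      LinearEquiv.apply_symm_apply])
  refine ⟨fun u v => ?_, fun u v => ?_, ⟨⟨?_, ?_, ?_, ?_⟩, ?_⟩, ?_, ?_⟩
  · rw [happ, happ, happ, hsymm, h1, hσ]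
  · rw [happ, happ, hσB, h2, ← hσB, LinearEquiv.apply_symm_apply, LinearEquiv.apply_symm_apply]
  · simpa using ha0
  · rw [← hσ, haa]
  · rw [eigenSum_map hσ, htop, Submodule.map_top, LinearEquiv.range]
  · intro c hc d hd u hu v hv
    rw [eigen_map hσ] at hu hv
    obtain ⟨u', hu', rfl⟩ := hu
    obtain ⟨v', hv', rfl⟩ := hv
    rw [eigenSum_map hσ]
    exact ⟨mul u' v', hfus c hc d hd u' hu' v' hv', hσ u' v'⟩
  · rw [eigen_map hσ, hprim, Submodule.map_span]
    simp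
  · intro v hv
    rw [eigenSum_map hσ] at hv
    obtain ⟨v', hv', rfl⟩ := hv
    simp only [LinearEquiv.coe_coe, happ, LinearEquiv.symm_apply_apply]
    exact congrArg σ (hfix v' hv')
  · intro v hv
    rw [eigen_map hσ] at hv
    obtain ⟨v', hv', rfl⟩ := hv
    simp only [LinearEquiv.coe_coe, happ, LinearEquiv.symm_apply_apply, ← map_neg]
    exact congrArg σ (hneg v' hv')

/-- Eigenvectors for three distinct eigenvalues are independent. -/
theorem indep3 {a x y z : V} (hx : mul a x = x) (hy : mul a y = 0)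
    (hz : mul a z = (1 / 4 : ℝ) • z) (h : x + y + z = 0) : x = 0 ∧ y = 0 ∧ z = 0 := by
  have h1 := congrArg (mul a) h
  rw [map_add, map_add, hx, hy, hz, add_zero, map_zero] at h1
  have h2 := congrArg (mul a) h1
  rw [map_add, map_smul, hx, hz, map_zero] at h2
  have h3 : (3 / 16 : ℝ) • z = 0 := by
    linear_combination (norm := module) h1 - h2
  have hz0 : z = 0 := (smul_eq_zero.1 h3).resolve_left (by norm_num)
  rw [hz0, smul_zero, add_zero] at h1
  rw [hz0, h1, zero_add, add_zero] at h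
  exact ⟨h1, h, hz0⟩

theorem idem_of_pair {μ : V ≃ₗ[ℝ] V} {a : V} (h : IsMajoranaPair mul B μ a) : mul a a = a :=
  h.2.2.1.1.2.1

/-- The three components of a vector fixed by the involution of an axis. -/
theorem decompose (hV : IsMajoranaAmbient mul B) {μ : V ≃ₗ[ℝ] V} {a : V}
    (h : IsMajoranaPair mul B μ a) (hn : B a a = 1) {v : V} (hv : μ v = v) :
    ∃ u w, mul a u = 0 ∧ mul a w = (1 / 4 : ℝ) • w ∧ B a u = 0 ∧ B a w = 0 ∧
      v = (B a v) • a + u + w := by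
  obtain ⟨-, hBs, -, hassoc, -⟩ := hV
  have haa := idem_of_pair h
  obtain ⟨-, -, ⟨⟨-, -, htop, -⟩, hprim⟩, hfix, hneg⟩ := h
  have hmem : v ∈ eigenSum mul a majoranaSpectrum := htop ▸ Submodule.mem_top
  rw [eigenSum, majoranaSpectrum, iSup_insert, iSup_insert, iSup_insert, iSup_singleton,
    Submodule.mem_sup] at hmem
  obtain ⟨v1, hv1, r, hr, hvr⟩ := hmem
  rw [Submodule.mem_sup] at hr
  obtain ⟨v0, hv0, r', hr', hrr⟩ := hr
  rw [Submodule.mem_sup] at hr'
  obtain ⟨v4, hv4, v32, hv32, hr32⟩ := hr'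
  subst hr32 hrr
  have hle : ∀ c ∈ ({1, 0, 1 / 4} : Set ℝ), eigen mul a c ≤ eigenSum mul a {1, 0, 1 / 4} :=
    fun c hc => le_iSup₂ (f := fun c (_ : c ∈ ({1, 0, 1 / 4} : Set ℝ)) => eigen mul a c) c hc
  have e1 : μ v1 = v1 := hfix v1 (hle 1 (by simp) hv1)
  have e0 : μ v0 = v0 := hfix v0 (hle 0 (by simp) hv0)
  have e4 : μ v4 = v4 := hfix v4 (hle (1 / 4) (by simp) hv4)
  have e32 : μ v32 = -v32 := hneg v32 hv32
  have h32 : v32 = 0 := by
    have h2 : (2 : ℝ) • v32 = 0 := by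
      rw [← hvr, map_add, map_add, map_add, e1, e0, e4, e32] at hv
      linear_combination (norm := module) -hv
    exact (smul_eq_zero.1 h2).resolve_left (by norm_num)
  rw [hprim] at hv1
  obtain ⟨k, rfl⟩ := Submodule.mem_span_singleton.1 hv1
  rw [mem_eigen, zero_smul] at hv0
  rw [mem_eigen] at hv4
  have o0 : B a v0 = 0 := by
    have := hassoc a a v0
    rw [haa, hv0, map_zero] at this
    exact this.symm
  have o4 : B a v4 = 0 := by
    have := hassoc a a v4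
    rw [haa, hv4, map_smul, smul_eq_mul] at this
    linarith
  have hk : B a v = k := by
    rw [← hvr, h32]
    simp [hn, o0, o4]
  exact ⟨v0, v4, hv0, hv4, o0, o4, by rw [hk, ← hvr, h32]; abel⟩

theorem mul_zero_zero {μ : V ≃ₗ[ℝ] V} {a u v : V} (h : IsMajoranaPair mul B μ a)
    (hu : mul a u = 0) (hv : mul a v = 0) : mul a (mul u v) = 0 := by
  have hm := h.2.2.1.1.2.2.2 0 (by simp [majoranaSpectrum]) 0 (by simp [majoranaSpectrum]) u
    (mem_eigen.2 (by rw [hu, zero_smul])) v (mem_eigen.2 (by rw [hv, zero_smul]))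
  rw [show monsterLaw (1 / 4 : ℝ) (1 / 32) 0 0 = {0} by norm_num [monsterLaw], eigenSum,
    iSup_singleton, mem_eigen, zero_smul] at hm
  exact hm

theorem mul_zero_quarter {μ : V ≃ₗ[ℝ] V} {a u v : V} (h : IsMajoranaPair mul B μ a)
    (hu : mul a u = 0) (hv : mul a v = (1 / 4 : ℝ) • v) :
    mul a (mul u v) = (1 / 4 : ℝ) • mul u v := by
  have hm := h.2.2.1.1.2.2.2 0 (by simp [majoranaSpectrum]) (1 / 4) (by simp [majoranaSpectrum]) u
    (mem_eigen.2 (by rw [hu, zero_smul])) v (mem_eigen.2 hv)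
  rw [show monsterLaw (1 / 4 : ℝ) (1 / 32) 0 (1 / 4) = {1 / 4} by norm_num [monsterLaw], eigenSum,
    iSup_singleton, mem_eigen] at hm
  exact hm

theorem mul_quarter_quarter (hV : IsMajoranaAmbient mul B) {μ : V ≃ₗ[ℝ] V} {a w : V}
    (h : IsMajoranaPair mul B μ a) (hn : B a a = 1) (hw : mul a w = (1 / 4 : ℝ) • w) :
    ∃ z, mul a z = 0 ∧ mul w w = (B w w / 4) • a + z := by
  have haa := idem_of_pair h
  obtain ⟨-, -, ⟨⟨-, -, -, hfus⟩, hprim⟩, -⟩ := h
  have hm := hfus (1 / 4) (by simp [majoranaSpectrum]) (1 / 4) (by simp [majoranaSpectrum]) w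
    (mem_eigen.2 hw) w (mem_eigen.2 hw)
  rw [show monsterLaw (1 / 4 : ℝ) (1 / 32) (1 / 4) (1 / 4) = {1, 0} by norm_num [monsterLaw],
    eigenSum, iSup_pair, Submodule.mem_sup] at hm
  obtain ⟨p, hp, z, hz, hpz⟩ := hm
  rw [hprim] at hp
  obtain ⟨k, rfl⟩ := Submodule.mem_span_singleton.1 hp
  rw [mem_eigen, zero_smul] at hz
  obtain ⟨-, -, -, hassoc, -⟩ := hV
  have o : B a z = 0 := by
    have := hassoc a a z
    rw [haa, hz, map_zero] at this
    exact this.symm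
  have hk : k = B w w / 4 := by
    have := hassoc a w w
    rw [← hpz, hw] at this
    simp [hn, o] at this
    linarith
  exact ⟨z, hz, by rw [← hpz, hk]⟩

/-- The type 2A / 2B alternative. -/
theorem commuting_pair (hV : IsMajoranaAmbient mul B) {μ₀ μ₁ : V ≃ₗ[ℝ] V} {a₀ a₁ : V}
    (h₀ : IsMajoranaPair mul B μ₀ a₀) (h₁ : IsMajoranaPair mul B μ₁ a₁) (hn₀ : B a₀ a₀ = 1)
    (hn₁ : B a₁ a₁ = 1) (f01 : μ₀ a₁ = a₁) (f10 : μ₁ a₀ = a₀) (hne : a₀ ≠ a₁) :
    (B a₀ a₁ = 0 ∧ mul a₀ a₁ = 0) ∨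
      (B a₀ a₁ = 1 / 8 ∧
        mul a₀ (mul a₀ a₁) = (3 / 32 : ℝ) • a₀ + (1 / 4 : ℝ) • mul a₀ a₁ ∧
        mul a₁ (mul a₀ a₁) = (3 / 32 : ℝ) • a₁ + (1 / 4 : ℝ) • mul a₀ a₁ ∧
        mul (mul a₀ a₁) (mul a₀ a₁) =
          (3 / 128 : ℝ) • (a₀ + a₁) - (1 / 32 : ℝ) • mul a₀ a₁) := by
  obtain ⟨u, w, hu, hw, ou, ow, hdec⟩ := decompose hV h₀ hn₀ f01
  obtain ⟨u', w', hu', hw', -, -, hdec'⟩ := decompose hV h₁ hn₁ f10
  obtain ⟨z, hz, hww⟩ := mul_quarter_quarter hV h₀ hn₀ hw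
  have huu := mul_zero_zero h₀ hu hu
  have huw := mul_zero_quarter h₀ hu hw
  have haa := idem_of_pair h₀
  have hbb := idem_of_pair h₁
  obtain ⟨hcm, hBs, hpos, hassoc, -⟩ := hV
  set b := B a₀ a₁ with hb
  rw [show B a₁ a₀ = b from hBs _ _] at hdec'
  have hu₂ : mul u a₀ = 0 := by rw [hcm, hu]
  have hw₂ : mul w a₀ = (1 / 4 : ℝ) • w := by rw [hcm, hw]
  have hwu : mul w u = mul u w := hcm _ _
  have hidem : (b ^ 2 + B w w / 4 - b) • a₀ + (mul u u + z - u) +
      ((b / 2 - 1) • w + (2 : ℝ) • mul u w) = 0 := by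
    have e : mul (b • a₀ + u + w) (b • a₀ + u + w) = b • a₀ + u + w := by rw [← hdec, hbb]
    simp only [map_add, map_smul, LinearMap.add_apply, LinearMap.smul_apply, haa, hu, hw, hu₂,
      hw₂, hwu, hww, smul_zero] at e
    linear_combination (norm := module) e
  have hsp : ∀ k : ℝ, mul a₀ (k • a₀) = k • a₀ := fun k => by rw [map_smul, haa]
  obtain ⟨i1, i0, i4⟩ := indep3 (hsp _) (by rw [map_sub, map_add, huu, hz, hu]; simp)
    (by rw [map_add, map_smul, map_smul, hw, huw]; module) hidem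
  have ha0ne : a₀ ≠ 0 := h₀.2.2.1.1.1
  have hW : B w w = 4 * (b - b ^ 2) := by
    have := (smul_eq_zero.1 i1).resolve_right ha0ne
    linarith
  have hp : mul a₀ a₁ = b • a₀ + (1 / 4 : ℝ) • w := by
    rw [hdec]; simp [haa, hu, hw]
  have hp' : mul a₀ a₁ = b • a₁ + (1 / 4 : ℝ) • w' := by
    rw [hcm, hdec']; simp [hbb, hu', hw']
  have hA0 : mul a₀ (mul a₀ a₁) = (3 * b / 4) • a₀ + (1 / 4 : ℝ) • mul a₀ a₁ := by
    rw [hp, map_add, map_smul, map_smul, haa, hw]; module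
  have hA1 : mul a₁ (mul a₀ a₁) = (3 * b / 4) • a₁ + (1 / 4 : ℝ) • mul a₀ a₁ := by
    rw [hp', map_add, map_smul, map_smul, hbb, hw']; module
  have hkey : (3 * b / 4 * b + b / 4 - b ^ 2 - B w w / 16) • a₀ +
      ((3 * b / 4) • u - (1 / 4 : ℝ) • z) +
      ((7 * b / 16 + 1 / 16) • w - (1 / 4 : ℝ) • mul u w) = 0 := by
    have e := hA1
    rw [hp, hdec] at e
    simp only [map_add, map_smul, LinearMap.add_apply, LinearMap.smul_apply, haa, hu, hw, hu₂,
      hw₂, hww, smul_zero] at e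
    linear_combination (norm := module) -e
  obtain ⟨-, k0, k4⟩ := indep3 (hsp _) (by rw [map_sub, map_smul, map_smul, hz, hu]; simp)
    (by rw [map_sub, map_smul, map_smul, hw, huw]; module) hkey
  have hzu : z = (3 * b) • u := by linear_combination (norm := module) (-4 : ℝ) • k0
  have hb4 : ((b - 1 / 8) / 2) • w = 0 := by
    linear_combination (norm := module) (1 / 8 : ℝ) • i4 + k4
  rcases smul_eq_zero.1 hb4 with h | h
  · right
    have hb8 : b = 1 / 8 := by linarith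
    refine ⟨hb8, ?_, ?_, ?_⟩
    · rw [hA0, hb8]; norm_num
    · rw [hA1, hb8]; norm_num
    · rw [hp, hdec]
      simp only [map_add, map_smul, LinearMap.add_apply, LinearMap.smul_apply, haa, hw, hw₂,
        hww, hW, hzu, hb8]
      module
  · left
    have hb0 : b * (1 - b) = 0 := by
      rw [h] at hW; simp at hW; linarith
    rcases mul_eq_zero.1 hb0 with hb0 | hb0
    · exact ⟨hb0, by rw [hp, hb0, h]; simp⟩
    · exfalso
      have hb1 : b = 1 := by linarith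
      have hu0 : u = 0 := by
        by_contra hne0
        have := hpos u hne0
        have e : B a₁ a₁ = b ^ 2 + B u u := by
          rw [hdec, h]
          simp [hn₀, ou, hBs u a₀]
          ring
        rw [hn₁, hb1] at e
        linarith
      rw [hb1, hu0, h] at hdec
      simp at hdec
      exact hne hdec.symm

end Cfsg.Agent.AxialPair
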